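import Mathlib
import Groth.Agent.H3.FactorLift

/-!
# Units in quotients of `R[s]` by ideals comaximal with `m R[s]`, `R` local

If `g ∈ R[s]` has unit constant term and all other coefficients in the maximal ideal and `g(x) = 0`
in an `R`-algebra, then `x` is a unit, `F(x)` is a unit for every monic `F`, and `f(x⁻¹)` is a
unit for every `f` with unit constant term.
-/

set_option autoImplicit false

namespace Groth.Agent.H78.Laurent

open Polynomial IsLocalRing

variable {R : Type*} [CommRing R] [IsLocalRing R]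

/-- `g ≡ unit mod m` is a unit modulo any monic polynomial -/
lemma exists_mul_add_mul_eq_one {F g : R[X]} (hF : F.Monic) (h0 : IsUnit (g.coeff 0))
    (hg : ∀ i, 1 ≤ i → g.coeff i ∈ maximalIdeal R) :
    ∃ a b : R[X], a * F + b * g = 1 := by
  have : Module.Finite R (AdjoinRoot F) := hF.finite_adjoinRoot
  have : Algebra.IsIntegral R (AdjoinRoot F) := Algebra.IsIntegral.of_finite R _
  have hjac := Groth.Agent.H3.map_maximalIdeal_le_jacobson_of_isIntegral R (AdjoinRoot F)
  -- `mk g - g₀ ∈ m A`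
  have h1 : AdjoinRoot.mk F (g - C (g.coeff 0)) ∈
      Ideal.map (algebraMap R (AdjoinRoot F)) (maximalIdeal R) := by
    have h2 : g - C (g.coeff 0) ∈ Ideal.map (C : R →+* R[X]) (maximalIdeal R) := by
      rw [Ideal.mem_map_C_iff]
      intro n
      rcases Nat.eq_zero_or_pos n with rfl | hn
      · simp
      · rw [coeff_sub, coeff_C, if_neg (by omega), sub_zero]
        exact hg n hn
    have h3 := Ideal.mem_map_of_mem (AdjoinRoot.mk F) h2
    rwa [Ideal.map_map] at h3
  have h4 := Ideal.mem_jacobson_bot.mp (hjac h1)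
  obtain ⟨u, hu⟩ := h0
  have h5 : IsUnit (AdjoinRoot.mk F g) := by
    have h6 := h4 (AdjoinRoot.mk F (C (↑u⁻¹ : R)))
    have h7 : AdjoinRoot.mk F g = AdjoinRoot.mk F (C (u : R)) *
        (AdjoinRoot.mk F (g - C (g.coeff 0)) * AdjoinRoot.mk F (C (↑u⁻¹ : R)) + 1) := by
      rw [← map_mul, ← map_one (AdjoinRoot.mk F), ← map_add, ← map_mul]
      congr 1
      have : (C (u : R) : R[X]) * C (↑u⁻¹ : R) = 1 := by
        rw [← C_mul, Units.mul_inv, C_1]
      rw [← hu]
      linear_combination (-(g - C (u : R))) * this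
    rw [h7]
    refine IsUnit.mul ?_ h6
    exact (u.isUnit.map (C : R →+* R[X])).map (AdjoinRoot.mk F)
  obtain ⟨b', hb'⟩ := h5.exists_right_inv
  obtain ⟨b, rfl⟩ := AdjoinRoot.mk_surjective b'
  rw [← map_mul, ← map_one (AdjoinRoot.mk F), AdjoinRoot.mk_eq_mk] at hb'
  obtain ⟨a, ha⟩ := hb'
  exact ⟨-a, b, by linear_combination ha⟩

variable {A : Type*} [CommRing A] [Algebra R A]

/-- if `g(x) = 0` with `g ≡ unit mod m`, then `F(x)` is a unit for monic `F` -/
lemma isUnit_aeval_of_monic {F g : R[X]} (hF : F.Monic) (h0 : IsUnit (g.coeff 0))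
    (hg : ∀ i, 1 ≤ i → g.coeff i ∈ maximalIdeal R) {x : A} (hx : aeval x g = 0) :
    IsUnit (aeval x F) := by
  obtain ⟨a, b, hab⟩ := exists_mul_add_mul_eq_one hF h0 hg
  have := congrArg (aeval x) hab
  rw [map_add, map_mul, map_mul, hx, mul_zero, add_zero, map_one] at this
  exact IsUnit.of_mul_eq_one _ (by rw [mul_comm]; exact this)

/-- if `g(x) = 0` with `g ≡ unit mod m`, then `x` is a unit -/
lemma isUnit_of_aeval_eq_zero {g : R[X]} (h0 : IsUnit (g.coeff 0))
    (hg : ∀ i, 1 ≤ i → g.coeff i ∈ maximalIdeal R) {x : A} (hx : aeval x g = 0) :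
    IsUnit x := by
  have := isUnit_aeval_of_monic (A := A) monic_X h0 hg hx
  simpa using this

/-- if `g(x) = 0` with `g ≡ unit mod m` and `u x = 1`, then `f(u)` is a unit for every `f` with
unit constant coefficient -/
lemma isUnit_aeval_inv {f g : R[X]} (hf : IsUnit (f.coeff 0)) (h0 : IsUnit (g.coeff 0))
    (hg : ∀ i, 1 ≤ i → g.coeff i ∈ maximalIdeal R) {x u : A} (hx : aeval x g = 0)
    (hux : u * x = 1) : IsUnit (aeval u f) := by
  obtain ⟨v, hv⟩ := hf
  have hne : f.coeff 0 ≠ 0 := by rw [← hv]; exact v.ne_zero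
  -- normalise: `C v⁻¹ * reverse f` is monic
  have hmon : (C (↑v⁻¹ : R) * f.reverse).Monic := by
    have hl : f.reverse.leadingCoeff = v := by
      rw [reverse_leadingCoeff, trailingCoeff_eq_coeff_zero hne, hv]
    rw [Monic, leadingCoeff_mul', leadingCoeff_C, hl, Units.inv_mul]
    rw [leadingCoeff_C, hl, Units.inv_mul]
    exact one_ne_zero
  have h1 := isUnit_aeval_of_monic (A := A) hmon h0 hg hx
  rw [map_mul, aeval_C] at h1
  have h2 : IsUnit (aeval x f.reverse) := by
    exact (IsUnit.mul_iff.mp h1).2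
  letI : Invertible u := ⟨x, by rw [mul_comm]; exact hux, hux⟩
  have h4 := eval₂_reverse_mul_pow (algebraMap R A) u f
  have h5 : (⅟u : A) = x := rfl
  rw [h5] at h4
  rw [aeval_def, ← h4]
  refine IsUnit.mul ?_ ?_
  · rwa [aeval_def] at h2
  · exact (IsUnit.of_mul_eq_one _ hux).pow _

end Groth.Agent.H78.Laurent
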