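import Mathlib
import Groth.Agent.H78.Laurent.Units

/-!
# Ideals of `R[s]` comaximal with `m R[s]` and the Zariski-local Laurent ring

`L` is the localisation of `R[t]` at the monoid generated by `t` and the polynomials with constant
term `1`, `ψ : R[s] → L` sends `s` to `t⁻¹`.  For `I ⊂ R[s]` comaximal with `m R[s]`, the map
`R[s]/I → L/IL` is bijective.
-/

set_option autoImplicit false

namespace Groth.Agent.H78.Laurent

open Polynomial IsLocalRing

universe u

variable {R : Type u} [CommRing R] [IsLocalRing R]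

/-- an element of `I` congruent to `1` modulo `m R[s]` -/
lemma exists_mem_of_sup_eq_top {I : Ideal R[X]}
    (hI : I ⊔ (maximalIdeal R).map (algebraMap R R[X]) = ⊤) :
    ∃ g ∈ I, 1 - g ∈ (maximalIdeal R).map (algebraMap R R[X]) ∧ IsUnit (g.coeff 0) ∧
      ∀ i, 1 ≤ i → g.coeff i ∈ maximalIdeal R := by
  have h1 : (1 : R[X]) ∈ I ⊔ (maximalIdeal R).map (algebraMap R R[X]) := by rw [hI]; trivial
  obtain ⟨g, hg, μ, hμ, hsum⟩ := Submodule.mem_sup.mp h1
  have hμ' : ∀ n, μ.coeff n ∈ maximalIdeal R := by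
    have : μ ∈ Ideal.map (C : R →+* R[X]) (maximalIdeal R) := hμ
    rwa [Ideal.mem_map_C_iff] at this
  have hgμ : g = 1 - μ := by linear_combination hsum
  refine ⟨g, hg, ?_, ?_, ?_⟩
  · have : 1 - g = μ := by linear_combination -hsum
    rw [this]; exact hμ
  · rw [hgμ, coeff_sub, coeff_one_zero]
    exact isUnit_one_sub_self_of_mem_nonunits _ (hμ' 0)
  · intro i hi
    rw [hgμ, coeff_sub, coeff_one, if_neg (by omega), zero_sub]
    exact Ideal.neg_mem_iff _ |>.mpr (hμ' i)

variable (L : Type u) [CommRing L] [Algebra R[X] L]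
  [IsLocalization (Submonoid.closure ({f : R[X] | f.coeff 0 = 1} ∪ {X})) L]
  [Algebra R L] [IsScalarTower R R[X] L]
  (ψ : R[X] →ₐ[R] L) (hψ : ψ X * algebraMap R[X] L X = 1)

include hψ in
theorem part1 (I : Ideal R[X]) (hI : I ⊔ (maximalIdeal R).map (algebraMap R R[X]) = ⊤) :
    (I.map ψ.toRingHom).comap ψ.toRingHom = I ∧
    I.map ψ.toRingHom ⊔ (maximalIdeal R).map (algebraMap R L) = ⊤ ∧
    Function.Bijective (Ideal.quotientMap (I.map ψ.toRingHom) ψ.toRingHom Ideal.le_comap_map) := by
  classical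
  set M : Submonoid R[X] := Submonoid.closure ({f : R[X] | f.coeff 0 = 1} ∪ {X}) with hM
  set ι := algebraMap R[X] L with hι
  obtain ⟨g, hgI, hg1, hg0, hgm⟩ := exists_mem_of_sup_eq_top hI
  -- the quotient ring and its unit `x = s̄`
  set π := Ideal.Quotient.mk I with hπ
  set x : R[X] ⧸ I := π X with hx
  have haev : ∀ q : R[X], aeval x q = π q := by
    intro q
    have := aeval_algHom_apply (Ideal.Quotient.mkₐ R I) (X : R[X]) q
    rw [aeval_X_left, AlgHom.id_apply] at this
    exact this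
  have hxg : aeval x g = 0 := by
    rw [haev]; exact Ideal.Quotient.eq_zero_iff_mem.mpr hgI
  obtain ⟨u, hux⟩ := (isUnit_of_aeval_eq_zero hg0 hgm hxg).exists_left_inv
  -- the map `R[t] → R[s]/I`, `t ↦ u`
  set χ₀ : R[X] →+* R[X] ⧸ I := (aeval u : R[X] →ₐ[R] R[X] ⧸ I).toRingHom with hχ₀
  have hχ₀C : ∀ a : R, χ₀ (C a) = π (C a) := by
    intro a
    show aeval u (C a) = π (C a)
    rw [aeval_C]; rfl
  have hχ₀X : χ₀ X = u := aeval_X u
  have hχ₀M : ∀ y : M, IsUnit (χ₀ y) := by
    rintro ⟨y, hy⟩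
    induction hy using Submonoid.closure_induction with
    | mem y hy =>
      rcases hy with hy | hy
      · show IsUnit (aeval u y)
        have hy' : y.coeff 0 = 1 := hy
        exact isUnit_aeval_inv (by rw [hy']; exact isUnit_one) hg0 hgm hxg hux
      · rw [Set.mem_singleton_iff] at hy
        subst hy
        show IsUnit (χ₀ X)
        rw [hχ₀X]
        exact IsUnit.of_mul_eq_one _ hux
    | one => simp
    | mul a b _ _ ha hb =>
      show IsUnit (χ₀ (a * b))
      rw [map_mul]; exact ha.mul hb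
  set χ : L →+* R[X] ⧸ I := IsLocalization.lift (M := M) (S := L) hχ₀M with hχ
  have hχι : ∀ p : R[X], χ (ι p) = χ₀ p := fun p => IsLocalization.lift_eq hχ₀M p
  have hψC : ∀ a : R, ψ (C a) = ι (C a) := by
    intro a
    have h1 : ψ (C a) = algebraMap R L a := ψ.commutes a
    rw [h1, IsScalarTower.algebraMap_apply R R[X] L]
    rfl
  have hχψX : χ (ψ X) = x := by
    have h1 : χ (ψ X) * u = 1 := by
      rw [← hχ₀X, ← hχι, ← map_mul, hψ, map_one]
    calc χ (ψ X) = χ (ψ X) * (u * x) := by rw [hux, mul_one]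
      _ = (χ (ψ X) * u) * x := by ring
      _ = x := by rw [h1, one_mul]
  have hχψ : χ.comp ψ.toRingHom = π := by
    apply Polynomial.ringHom_ext
    · intro a
      show χ (ψ (C a)) = π (C a)
      rw [hψC, hχι, hχ₀C]
    · show χ (ψ X) = π X
      exact hχψX
  -- contraction
  have hcomap : (I.map ψ.toRingHom).comap ψ.toRingHom ≤ I := by
    intro q hq
    rw [Ideal.mem_comap] at hq
    have h1 := Ideal.mem_map_of_mem χ hq
    rw [Ideal.map_map, hχψ, Ideal.map_quotient_self, Ideal.mem_bot] at h1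
    have h2 : χ (ψ.toRingHom q) = π q := RingHom.congr_fun hχψ q
    rw [h2] at h1
    exact Ideal.Quotient.eq_zero_iff_mem.mp h1
  refine ⟨le_antisymm hcomap Ideal.le_comap_map, ?_, ?_, ?_⟩
  · rw [Ideal.eq_top_iff_one]
    have h1 : (1 : L) = ψ g + ψ (1 - g) := by rw [← map_add]; simp
    rw [h1]
    refine Ideal.add_mem _ (Ideal.mem_sup_left (Ideal.mem_map_of_mem _ hgI))
      (Ideal.mem_sup_right ?_)
    have h2 := Ideal.mem_map_of_mem ψ.toRingHom hg1
    rw [Ideal.map_map] at h2
    have h3 : ψ.toRingHom.comp (algebraMap R R[X]) = algebraMap R L := ψ.comp_algebraMap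
    rwa [h3] at h2
  · exact Ideal.quotientMap_injective' hcomap
  · -- surjectivity
    set π' := Ideal.Quotient.mk (I.map ψ.toRingHom) with hπ'
    set ψbar := Ideal.quotientMap (I.map ψ.toRingHom) ψ.toRingHom Ideal.le_comap_map with hψbar
    have hψbarπ : ∀ q : R[X], ψbar (π q) = π' (ψ q) := fun q => Ideal.quotientMap_mk
    have key : π' = ψbar.comp χ := by
      apply IsLocalization.ringHom_ext M
      apply Polynomial.ringHom_ext
      · intro a
        show π' (ι (C a)) = ψbar (χ (ι (C a)))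
        rw [hχι, hχ₀C, hψbarπ, hψC]
      · show π' (ι X) = ψbar (χ (ι X))
        rw [hχι, hχ₀X]
        have h1 : ψbar u * π' (ψ X) = 1 := by
          rw [← hψbarπ, ← map_mul, hux, map_one]
        have h2 : π' (ι X) * π' (ψ X) = 1 := by
          rw [← map_mul, mul_comm, hψ, map_one]
        calc π' (ι X) = π' (ι X) * (ψbar u * π' (ψ X)) := by rw [h1, mul_one]
          _ = (π' (ι X) * π' (ψ X)) * ψbar u := by ring
          _ = ψbar u := by rw [h2, one_mul]
    intro y
    obtain ⟨l, rfl⟩ := Ideal.Quotient.mk_surjective y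
    refine ⟨χ l, ?_⟩
    have := RingHom.congr_fun key l
    exact this.symm

end Groth.Agent.H78.Laurent
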