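import Mathlib
import Groth.Agent.H78.Laurent.ZarPart1
import Groth.Agent.H3.FactorLiftMain

/-!
# Ideals of the Zariski-local Laurent ring comaximal with `m L`, `R` henselian local
-/

set_option autoImplicit false

namespace Groth.Agent.H78.Laurent

open Polynomial IsLocalRing

universe u

/-- elements of the monoid generated by `X` and polynomials with constant term `1` -/
lemma exists_eq_X_pow_mul_of_mem_closure {R : Type*} [CommRing R] {s : R[X]}
    (hs : s ∈ Submonoid.closure ({f : R[X] | f.coeff 0 = 1} ∪ {X})) :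
    ∃ (c : ℕ) (σ : R[X]), σ.coeff 0 = 1 ∧ s = X ^ c * σ := by
  induction hs using Submonoid.closure_induction with
  | mem y hy =>
    rcases hy with hy | hy
    · exact ⟨0, y, hy, by simp⟩
    · rw [Set.mem_singleton_iff] at hy
      exact ⟨1, 1, by simp, by simp [hy]⟩
  | one => exact ⟨0, 1, by simp, by simp⟩
  | mul a b _ _ ha hb =>
    obtain ⟨c, σ, hσ, rfl⟩ := ha
    obtain ⟨c', σ', hσ', rfl⟩ := hb
    refine ⟨c + c', σ * σ', ?_, by ring⟩
    rw [mul_coeff_zero, hσ, hσ', one_mul]

variable {R : Type u} [CommRing R] [HenselianLocalRing R]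

variable (L : Type u) [CommRing L] [Algebra R[X] L]
  [IsLocalization (Submonoid.closure ({f : R[X] | f.coeff 0 = 1} ∪ {X})) L]
  [Algebra R L] [IsScalarTower R R[X] L]
  (ψ : R[X] →ₐ[R] L) (hψ : ψ X * algebraMap R[X] L X = 1)

include hψ in
theorem part2 (J : Ideal L) (hJ : J ⊔ (maximalIdeal R).map (algebraMap R L) = ⊤) :
    (J.comap ψ.toRingHom).map ψ.toRingHom = J ∧
    J.comap ψ.toRingHom ⊔ (maximalIdeal R).map (algebraMap R R[X]) = ⊤ := by
  classical
  set M : Submonoid R[X] := Submonoid.closure ({f : R[X] | f.coeff 0 = 1} ∪ {X}) with hM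
  set ι := algebraMap R[X] L with hι
  have hunitM : ∀ f : R[X], f ∈ M → IsUnit (ι f) := fun f hf =>
    IsLocalization.map_units L (⟨f, hf⟩ : M)
  -- polynomials with unit constant coefficient are units of `L`
  have hunit : ∀ f : R[X], IsUnit (f.coeff 0) → IsUnit (ι f) := by
    intro f hf
    obtain ⟨v, hv⟩ := hf
    have h1 : f = C (v : R) * (C (↑v⁻¹ : R) * f) := by
      rw [← mul_assoc, ← C_mul, Units.mul_inv, C_1, one_mul]
    rw [h1, map_mul]
    refine IsUnit.mul ?_ (hunitM _ (Submonoid.subset_closure (Or.inl ?_)))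
    · exact (v.isUnit.map (C : R →+* R[X])).map ι
    · show (C (↑v⁻¹ : R) * f).coeff 0 = 1
      rw [coeff_C_mul, ← hv, Units.inv_mul]
  -- step 1: a polynomial in `J` congruent to `X^c σ`
  have h1 : (1 : L) ∈ J ⊔ (maximalIdeal R).map (algebraMap R L) := by rw [hJ]; trivial
  obtain ⟨j, hj, ν, hν, hsum⟩ := Submodule.mem_sup.mp h1
  have hmap : (maximalIdeal R).map (algebraMap R L) =
      ((maximalIdeal R).map (C : R →+* R[X])).map ι := by
    rw [Ideal.map_map]
    congr 1
    exact IsScalarTower.algebraMap_eq R R[X] L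
  rw [hmap, IsLocalization.mem_map_algebraMap_iff M L] at hν
  obtain ⟨⟨⟨μ, hμ⟩, ⟨s, hs⟩⟩, hνs⟩ := hν
  simp only at hνs
  obtain ⟨c, σ, hσ, rfl⟩ := exists_eq_X_pow_mul_of_mem_closure hs
  set p₁ : R[X] := X ^ c * σ - μ with hp₁
  have hp₁J : ι p₁ ∈ J := by
    have : ι p₁ = j * ι (X ^ c * σ) := by
      rw [hp₁, map_sub, ← hνs]
      linear_combination (-ι (X ^ c * σ)) * hsum
    rw [this]
    exact Ideal.mul_mem_right _ _ hj
  have hμ0 : μ.map (residue R) = 0 := by
    rw [Ideal.mem_map_C_iff] at hμ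
    ext n
    rw [coeff_map, coeff_zero, residue_eq_zero_iff]
    exact hμ n
  have hp₁res : p₁.map (residue R) = X ^ c * σ.map (residue R) := by
    rw [hp₁, Polynomial.map_sub, hμ0, sub_zero, Polynomial.map_mul, Polynomial.map_pow, map_X]
  -- step 2: Hensel factorisation
  have hσ0 : (σ.map (residue R)).coeff 0 = 1 := by rw [coeff_map, hσ, map_one]
  have hcop : IsCoprime ((X : (ResidueField R)[X]) ^ c) (σ.map (residue R)) := by
    apply IsCoprime.pow_left
    refine ⟨-divX (σ.map (residue R)), 1, ?_⟩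
    have := divX_mul_X_add (σ.map (residue R))
    rw [hσ0, C_1] at this
    linear_combination -this
  obtain ⟨P, Q, hPQ, hPmon, hPres, hQres⟩ :=
    Groth.Agent.H3.factor_lift R p₁ (X ^ c) (σ.map (residue R)) (monic_X_pow c) hcop hp₁res
  have hQunit : IsUnit (ι Q) := by
    apply hunit
    have : residue R (Q.coeff 0) = 1 := by
      rw [← coeff_map, hQres, hσ0]
    rw [← residue_ne_zero_iff_isUnit, this]
    exact one_ne_zero
  have hPJ : ι P ∈ J := by
    obtain ⟨w, hw⟩ := hQunit
    have : ι P = ι p₁ * ↑w⁻¹ := by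
      rw [hPQ, map_mul, ← hw, mul_assoc, Units.mul_inv, mul_one]
    rw [this]
    exact Ideal.mul_mem_right _ _ hp₁J
  have hPdeg : P.natDegree = c := by
    have := hPmon.natDegree_map (residue R)
    rw [hPres, natDegree_X_pow] at this
    exact this.symm
  have hPcoeff : ∀ i, i < c → P.coeff i ∈ maximalIdeal R := by
    intro i hi
    rw [← residue_eq_zero_iff, ← coeff_map, hPres, coeff_X_pow, if_neg (by omega)]
  -- step 3: the reversed polynomial
  set g : R[X] := P.reverse with hg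
  have hg0 : g.coeff 0 = 1 := by rw [hg, coeff_zero_reverse]; exact hPmon
  have hgm : ∀ i, 1 ≤ i → g.coeff i ∈ maximalIdeal R := by
    intro i hi
    rw [hg, coeff_reverse, hPdeg]
    by_cases hic : i ≤ c
    · rw [revAt_le hic]
      exact hPcoeff _ (by omega)
    · have : (revAt c) i = i := revAt_eq_self_of_lt (by omega)
      rw [this, coeff_eq_zero_of_natDegree_lt (by omega)]
      exact Ideal.zero_mem _
  have hψg : ψ g * ι X ^ c = ι P := by
    letI : Invertible (ι X) := ⟨ψ X, hψ, by rw [mul_comm]; exact hψ⟩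
    have h4 := eval₂_reverse_mul_pow (algebraMap R L) (ι X) P
    have h5 : (⅟(ι X) : L) = ψ X := rfl
    rw [h5, hPdeg] at h4
    have h6 : ψ g = eval₂ (algebraMap R L) (ψ X) g := by
      have := aeval_algHom_apply ψ (X : R[X]) g
      rw [aeval_X_left, AlgHom.id_apply] at this
      rw [← this, aeval_def]
    have h7 : ι P = eval₂ (algebraMap R L) (ι X) P := by
      have := aeval_algHom_apply (IsScalarTower.toAlgHom R R[X] L) (X : R[X]) P
      rw [aeval_X_left, AlgHom.id_apply] at this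
      rw [← aeval_def]
      exact this.symm
    rw [h6, h7, hg]
    exact h4
  have hψgJ : ψ g ∈ J := by
    have : ψ g = ι P * ψ X ^ c := by
      rw [← hψg, mul_assoc, ← mul_pow, mul_comm (ι X), hψ, one_pow, mul_one]
    rw [this]
    exact Ideal.mul_mem_right _ _ hPJ
  have hg1 : 1 - g ∈ (maximalIdeal R).map (algebraMap R R[X]) := by
    show 1 - g ∈ Ideal.map (C : R →+* R[X]) (maximalIdeal R)
    rw [Ideal.mem_map_C_iff]
    intro n
    rcases Nat.eq_zero_or_pos n with rfl | hn
    · rw [coeff_sub, coeff_one_zero, hg0, sub_self]; exact Ideal.zero_mem _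
    · rw [coeff_sub, coeff_one, if_neg (by omega), zero_sub]
      exact Ideal.neg_mem_iff _ |>.mpr (hgm n hn)
  have hI : J.comap ψ.toRingHom ⊔ (maximalIdeal R).map (algebraMap R R[X]) = ⊤ := by
    rw [Ideal.eq_top_iff_one]
    have : (1 : R[X]) = g + (1 - g) := by ring
    rw [this]
    exact Ideal.add_mem _ (Ideal.mem_sup_left (Ideal.mem_comap.mpr hψgJ)) (Ideal.mem_sup_right hg1)
  refine ⟨le_antisymm Ideal.map_comap_le ?_, hI⟩
  obtain ⟨-, -, -, hsurj⟩ := part1 L ψ hψ (J.comap ψ.toRingHom) hI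
  intro y hy
  obtain ⟨z, hz⟩ := hsurj (Ideal.Quotient.mk _ y)
  obtain ⟨q, rfl⟩ := Ideal.Quotient.mk_surjective z
  rw [Ideal.quotientMap_mk, Ideal.Quotient.eq] at hz
  -- `ψ q - y ∈ I.map ψ ⊆ J`
  have h8 : ψ.toRingHom q - y ∈ J := Ideal.map_comap_le hz
  have h9 : ψ.toRingHom q ∈ J := by
    have : ψ.toRingHom q = (ψ.toRingHom q - y) + y := by ring
    rw [this]; exact Ideal.add_mem _ h8 hy
  have h10 : ψ.toRingHom q ∈ (J.comap ψ.toRingHom).map ψ.toRingHom :=
    Ideal.mem_map_of_mem _ (Ideal.mem_comap.mpr h9)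
  have : y = ψ.toRingHom q - (ψ.toRingHom q - y) := by ring
  rw [this]
  exact Ideal.sub_mem _ h10 hz

end Groth.Agent.H78.Laurent
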